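import Cfsg.Agent.Lib.MultiplierRu.Checks
import Cfsg.Agent.Lib.Multiplier.PrimeQuotient
import Cfsg.Agent.Lib.Multiplier.OddExtraspecial

/-!
# The Schur multiplier of the Rudvalis group has order at most 2

* `ker_le_two`: the kernel of a stem extension of `rud` has at most two elements.
-/

set_option autoImplicit false

open scoped commutatorElement

namespace Cfsg.Agent.MultiplierRu

open Cfsg.Agent.StabCert Cfsg.Agent.RuPerm Cfsg.Agent.Multiplier

theorem el_append (u v : List ℕ) : el (u ++ v) = el u * el v := by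
  rw [el, List.map_append, List.prod_append]; rfl

theorem el_coe (l : List ℕ) : ((el l : rud) : Equiv.Perm (Fin 4060)) = wordEl gen l := by
  rw [el, SubmonoidClass.coe_list_prod, List.map_map, wordEl]; rfl

theorem el_eq {u v : List ℕ} (hu : ∀ k ∈ u, k < 9) (hv : ∀ k ∈ v, k < 9) (h : eqR u v = true) :
    el u = el v := by
  refine Subtype.ext ?_
  rw [el_coe, el_coe]
  simp only [eqR, List.all_eq_true] at h
  exact wordEl_eq hu hv fun β hβ => Nat.eq_of_beq_eq_true (h β hβ)

theorem eqR_of_el {u v : List ℕ} (hu : ∀ k ∈ u, k < 9) (hv : ∀ k ∈ v, k < 9) (h : el u = el v) :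
    eqR u v = true := by
  have e : wordEl gen u = wordEl gen v := by rw [← el_coe, ← el_coe, h]
  simp only [eqR, List.all_eq_true]
  intro β hβ
  obtain ⟨h1, e1⟩ := ev_spec sound u hu β (detPts_lt β hβ)
  obtain ⟨h2, e2⟩ := ev_spec sound v hv β (detPts_lt β hβ)
  rw [e] at e1
  rw [pt_injOn h1 h2 (e1.symm.trans e2)]
  exact Nat.beq_refl _

/-- A word in the given words as a word in the permutations. -/
theorem el_flatMap (ws : List (List ℕ)) :
    ∀ l : List ℕ, el (l.flatMap fun i => ws.getD i []) = (l.map fun i => el (ws.getD i [])).prod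
  | [] => rfl
  | a :: l => by rw [List.flatMap_cons, el_append, el_flatMap ws l, List.map_cons, List.prod_cons]

theorem words_lt {ws : List (List ℕ)} (h : ∀ l ∈ ws, ∀ k ∈ l, k < 9) (i : ℕ) :
    ∀ k ∈ ws.getD i [], k < 9 := by
  intro k hk
  rw [List.getD_eq_getElem?_getD] at hk
  cases e : ws[i]? with
  | none => rw [e] at hk; simp at hk
  | some l => rw [e] at hk; exact h l (List.mem_of_getElem? e) k hk

theorem flat_lt {ws : List (List ℕ)} (h : ∀ l ∈ ws, ∀ k ∈ l, k < 9) (l : List ℕ) :
    ∀ k ∈ l.flatMap (fun i => ws.getD i []), k < 9 := by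
  intro k hk
  obtain ⟨i, -, hi⟩ := List.mem_flatMap.1 hk
  exact words_lt h i k hi

theorem all_lt :
    (∀ l ∈ pcWords, ∀ k ∈ l, k < 9) ∧ (∀ l ∈ conjWords, ∀ k ∈ l, k < 9) ∧
      (∀ l ∈ threeWords, ∀ k ∈ l, k < 9) ∧ ∀ l ∈ fiveWords, ∀ k ∈ l, k < 9 := by
  have h := words_ok
  simp only [wordsOK, List.all_eq_true, Nat.blt_eq, List.mem_append] at h
  exact ⟨fun l hl => h l (by tauto), fun l hl => h l (by tauto), fun l hl => h l (by tauto),
    fun l hl => h l (by tauto)⟩

theorem oddW_lt {ws : List (List ℕ)} (h : ∀ l ∈ ws, ∀ k ∈ l, k < 9) (l : List ℕ) :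
    ∀ k ∈ oddW ws l, k < 9 := flat_lt h l

theorem pcW_lt (l : List ℕ) : ∀ k ∈ pcW l, k < 9 := flat_lt all_lt.1 l

/-- A polycyclic generator. -/
noncomputable def pcG (i : ℕ) : rud := el (pcWords.getD i [])

/-- A conjugating element. -/
noncomputable def cjG (i : ℕ) : rud := el (conjWords.getD i [])

theorem pw_pcG (l : List ℕ) : TailCert.pw pcG l = el (pcW l) := (el_flatMap pcWords l).symm

theorem mem_subl : ∀ {m l : List ℕ}, l.Sublist m → l ∈ subl m
  | _, _, .slnil => List.mem_singleton.2 rfl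
  | _, _, .cons _ h => List.mem_append_left _ (mem_subl h)
  | _, _, .cons_cons _ h => List.mem_append_right _ (List.mem_map.2 ⟨_, mem_subl h, rfl⟩)

theorem rep_lt {a b : ℕ} (ha : a < 14) (hb : b ≤ a) : ∀ i ∈ TailCert.rep 14 rhs a b, i < 14 := by
  intro i hi
  rw [TailCert.rep] at hi
  split at hi
  · exact List.mem_range.1 (List.mem_filter.1 hi).1
  · rcases List.mem_cons.1 hi with rfl | hi
    · omega
    rcases List.mem_cons.1 hi with rfl | hi
    · exact ha
    · exact List.mem_range.1 (List.mem_filter.1 hi).1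

theorem pcG_rel (a b : ℕ) (ha : a < 14) (hb : b ≤ a) :
    pcG a * pcG b = TailCert.pw pcG (TailCert.rep 14 rhs a b) := by
  have h := rel_ok
  simp only [relOK, List.all_eq_true, List.mem_range] at h
  rw [pw_pcG, ← el_eq (pcW_lt _) (pcW_lt _) (h a ha b (by omega)), ← pw_pcG]
  simp [TailCert.pw]

theorem pcG_inj (l : List ℕ) (hl : l.Sublist (List.range 14)) (h : TailCert.pw pcG l = 1) : l = [] := by
  have hs := List.all_eq_true.1 subl_ok l (mem_subl hl)
  rw [pw_pcG] at h
  rw [eqR_of_el (v := []) (pcW_lt _) (by simp) h] at hs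
  simpa using hs

theorem rhs_lt : ∀ a b, a < 14 → b ≤ a → ∀ i ∈ TailCert.letters 14 (rhs.getD (TailCert.tidx a b) 0), a < i := by
  have h := all_ok
  simp only [TailCert.allTails, TailCert.derived, Bool.and_eq_true, List.all_eq_true, List.mem_range,
    decide_eq_true_eq, beq_iff_eq] at h
  exact fun a b ha hb i hi => (h a ha b (by omega)).2 i hi

theorem sylow_two_index : ¬ 2 ∣ (Subgroup.closure (Set.range fun i : Fin 14 => pcG i)).index := by
  have hset : (Set.range fun i : Fin 14 => pcG i) = pcG '' {i | 0 ≤ i ∧ i < 14} := by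
    ext x
    exact ⟨fun ⟨i, e⟩ => ⟨i, ⟨Nat.zero_le _, i.2⟩, e⟩, fun ⟨i, hi, e⟩ => ⟨⟨i, hi.2⟩, e⟩⟩
  have hc := TailCert.card_of_rel pcG_rel rhs_lt pcG_inj 14 0 rfl
  have hm := (Subgroup.closure (pcG '' {i | 0 ≤ i ∧ i < 14})).card_mul_index
  rw [hc, natCard_rud] at hm
  rw [hset]
  intro hd
  omega

/-- The first element of the pair. -/
noncomputable def pairx : rud := TailCert.pw pcG pairX

/-- The second element of the pair. -/
noncomputable def pairy : rud := TailCert.pw pcG pairY

theorem pair_facts : pairx * pairx = 1 ∧ pairx * pairy = pairy * pairx := by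
  have h := pair_ok
  simp only [pairOK, Bool.and_eq_true] at h
  rw [pairx, pairy, ← TailCert.pw_append, ← TailCert.pw_append, ← TailCert.pw_append, pw_pcG, pw_pcG, pw_pcG]
  exact ⟨el_eq (pcW_lt _) (by simp) h.1.2, el_eq (pcW_lt _) (pcW_lt _) h.2⟩

/-- The letters of the words of an odd Sylow subgroup. -/
noncomputable def oddG (ws : List (List ℕ)) (i : ℕ) : rud := el (ws.getD i [])

theorem not_stem_odd {Γ : Type*} [Group Γ] [Finite Γ] {σ : Γ →* rud} (hσ : Cfsg.IsStemExtension σ)
    {p : ℕ} (hp : p.Prime) (hp2 : p ≠ 2) {ws els : List (List ℕ)} {succ : List ℕ}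
    (hws : ∀ l ∈ ws, ∀ k ∈ l, k < 9) (h : oddOK p ws els succ = true)
    (hord : ¬ p ∣ 145926144000 / (p * p * p)) (hdvd : p * p * p ∣ 145926144000) :
    Nat.card σ.ker ≠ p := by
  simp only [oddOK, Bool.and_eq_true, List.all_eq_true, List.mem_range, Nat.blt_eq, beq_iff_eq,
    Bool.not_eq_true'] at h
  obtain ⟨⟨⟨⟨⟨⟨⟨⟨⟨⟨⟨⟨hlen, hhead⟩, hlt⟩, hsucc⟩, hnd⟩, hap⟩, hbp0⟩, htt⟩, hta⟩, htb⟩, hne⟩, hca⟩, hcb⟩ := h
  have hw : ∀ l, el (oddW ws l) = (l.map (oddG ws)).prod := el_flatMap ws
  have heq : ∀ {u v : List ℕ}, eqR (oddW ws u) (oddW ws v) = true →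
      (u.map (oddG ws)).prod = (v.map (oddG ws)).prod := fun e => by
    rw [← hw, ← hw]; exact el_eq (oddW_lt hws _) (oddW_lt hws _) e
  have hone : ∀ {u : List ℕ}, eqR (oddW ws u) [] = true → (u.map (oddG ws)).prod = 1 := fun e =>
    heq (v := []) e
  obtain ⟨a, hadef⟩ : ∃ a, a = oddG ws 0 := ⟨_, rfl⟩
  obtain ⟨b, hbdef⟩ : ∃ b, b = oddG ws 1 := ⟨_, rfl⟩
  obtain ⟨t, htdef⟩ : ∃ t, t = oddG ws 2 := ⟨_, rfl⟩
  have ha : a ^ p = 1 := by
    have e := hone hap
    rwa [List.map_replicate, List.prod_replicate, ← hadef] at e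
  have hbp : b ^ p = 1 := by
    have e := hone hbp0
    rwa [List.map_replicate, List.prod_replicate, ← hbdef] at e
  have hinv : ∀ {x : rud}, x ^ p = 1 → x ^ (p - 1) = x⁻¹ := fun {x} hx =>
    eq_inv_of_mul_eq_one_left (by rw [← pow_succ, show p - 1 + 1 = p by have := hp.pos; omega, hx])
  have ett : t * t = 1 := by simpa [← htdef] using hone htt
  have htinv : t⁻¹ = t := inv_eq_of_mul_eq_one_right ett
  have eta : t * a * t * a = 1 := by simpa [← htdef, ← hadef, mul_assoc] using hone hta
  have etb : t * b * t * b = 1 := by simpa [← htdef, ← hbdef, mul_assoc] using hone htb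
  have ecomm : ⁅a, b⁆ = a * b * a ^ (p - 1) * b ^ (p - 1) := by
    rw [hinv ha, hinv hbp, commutatorElement_def]
  have eca : Commute ⁅a, b⁆ a := by
    have e := heq hca
    simp only [List.map_append, List.map_cons, List.map_nil, List.prod_append, List.prod_cons,
      List.prod_nil, List.map_replicate, List.prod_replicate, mul_one, ← hadef, ← hbdef] at e
    show ⁅a, b⁆ * a = a * ⁅a, b⁆
    rw [ecomm]
    simpa only [mul_assoc] using e
  have ecb : Commute ⁅a, b⁆ b := by
    have e := heq hcb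
    simp only [List.map_append, List.map_cons, List.map_nil, List.prod_append, List.prod_cons,
      List.prod_nil, List.map_replicate, List.prod_replicate, mul_one, ← hadef, ← hbdef] at e
    show ⁅a, b⁆ * b = b * ⁅a, b⁆
    rw [ecomm]
    simpa only [mul_assoc] using e
  have ene : ⁅a, b⁆ ≠ 1 := by
    intro e
    have e' : el (oddW ws [0, 1]) = el (oddW ws [1, 0]) := by
      rw [hw, hw]
      simpa [← hadef, ← hbdef] using commutatorElement_eq_one_iff_mul_comm.1 e
    rw [eqR_of_el (oddW_lt hws _) (oddW_lt hws _) e'] at hne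
    simp at hne
  refine Multiplier.not_stem_of_inverting hσ hp hp2 ha eca ecb ene (g := t) ?_ ?_ ?_
  · rw [htinv]; exact eq_inv_of_mul_eq_one_left eta
  · rw [htinv]; exact eq_inv_of_mul_eq_one_left etb
  · have hset : ({a, b} : Set rud) = oddG ws '' {i | i < 2} := by
      ext x
      constructor
      · rintro (rfl | rfl)
        · exact ⟨0, by simp, hadef.symm⟩
        · exact ⟨1, by simp, hbdef.symm⟩
      · rintro ⟨i, hi, rfl⟩
        rcases (show i = 0 ∨ i = 1 by have : i < 2 := hi; omega) with rfl | rfl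
        · exact Or.inl hadef.symm
        · exact Or.inr hbdef.symm
    have hmemd : ∀ i < els.length, els.getD i [] ∈ els := fun i hi => by
      rw [List.getD_eq_getElem?_getD, List.getElem?_eq_getElem hi]; exact List.getElem_mem hi
    have hcard := Multiplier.card_closure_of_list (oddG ws) 2 els hlt ?_ ?_ ?_
    · have hm := (Subgroup.closure ({a, b} : Set rud)).card_mul_index
      rw [hset] at hm ⊢
      rw [hcard, hlen, natCard_rud] at hm
      intro hd
      exact hord (by rwa [← hm, Nat.mul_div_cancel_left _ (by have := hp.pos; positivity)])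
    · cases els with
      | nil => simp at hhead
      | cons l r => simp only [List.headD_cons] at hhead; subst hhead; exact List.mem_cons_self
    · intro l hl i hi
      obtain ⟨j, rfl⟩ := List.get_of_mem hl
      have hj := hsucc j.1 j.2 i hi
      have he : els.getD j.1 [] = els.get j := by simp [List.getD_eq_getElem?_getD]
      have hr : succ.getD (2 * j.1 + i) els.length = succ.getD (2 * j.1 + i) 0 := by
        have hlen' := hj.1
        rw [List.getD_eq_getElem?_getD] at hlen' ⊢
        rw [List.getD_eq_getElem?_getD]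
        cases e : succ[2 * j.1 + i]? with
        | none => rw [e] at hlen'; simp at hlen'
        | some r => rfl
      rw [hr, he] at hj
      exact ⟨_, hmemd _ hj.1, heq hj.2⟩
    · intro i hi j hj e
      have e' : el (oddW ws (els.getD i [])) = el (oddW ws (els.getD j [])) := by rw [hw, hw]; exact e
      have := hnd i hi j hj
      rw [eqR_of_el (oddW_lt hws _) (oddW_lt hws _) e'] at this
      simp at this

universe u

/-- The lifts of the pair do not commute in a stem extension with kernel of prime order. -/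
theorem not_commute_lifts (Γ : Type u) [Group Γ] [Finite Γ] (σ : Γ →* rud)
    (hσ : Cfsg.IsStemExtension σ) (hprime : (Nat.card σ.ker).Prime) (a b : Γ) (ha : σ a = pairx)
    (hb : σ b = pairy) : a * b ≠ b * a := by
  intro hab
  obtain ⟨p, hpdef⟩ : ∃ p, p = Nat.card σ.ker := ⟨_, rfl⟩
  rw [← hpdef] at hprime
  by_cases h2 : p = 2
  · rw [hpdef] at h2
    have hp := pair_ok
    simp only [pairOK, Bool.and_eq_true, List.all_eq_true, Nat.blt_eq] at hp
    refine TailCert.not_stem_two_of_stable hσ h2 14 rhs pairX pairY consFacts stabs fixedTails shiftSel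
      dersTails pcG cjG pcG_rel hp.1.1.1 hp.1.1.2 (fun r hr => ?_) pcG_inj sylow_two_index
      (fun x y hx hy => ?_) shift_ok tails_ok all_ok
    · have h := List.all_eq_true.1 stab_ok r hr
      simp only [stabOK, Bool.and_eq_true, List.all_eq_true, List.mem_range, Nat.blt_eq, beq_iff_eq] at h
      obtain ⟨⟨⟨hx, hy⟩, hl⟩, hc⟩ := h
      refine ⟨hx, hy, fun i => ?_⟩
      by_cases hi : i < r.xs.length
      · rw [pw_pcG, pw_pcG, cjG, ← el_append, ← el_append]
        refine el_eq ?_ ?_ (hc i hi) <;>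
        · intro k hk
          rcases List.mem_append.1 hk with hk | hk <;>
            first | exact words_lt all_lt.2.1 _ k hk | exact pcW_lt _ k hk
      · rw [List.getD_eq_getElem?_getD, List.getD_eq_getElem?_getD, List.getElem?_eq_none (not_lt.1 hi),
          List.getElem?_eq_none (hl ▸ not_lt.1 hi)]
        simp [TailCert.pw]
    · rw [← commutatorElement_eq_one_iff_mul_comm, ← Multiplier.commutator_congr hσ.2.1 (x := a) (y := b)
        (by rw [ha, hx]; rfl) (by rw [hb, hy]; rfl), commutatorElement_eq_one_iff_mul_comm]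
      exact hab
  by_cases h3 : p = 3
  · subst h3
    exact not_stem_odd hσ Nat.prime_three (by norm_num) all_lt.2.2.1 three_ok (by norm_num) (by norm_num)
      hpdef.symm
  by_cases h5 : p = 5
  · subst h5
    exact not_stem_odd hσ Nat.prime_five (by norm_num) all_lt.2.2.2 five_ok (by norm_num) (by norm_num)
      hpdef.symm
  refine Multiplier.not_stem_of_not_sq_dvd hσ hprime ?_ hpdef.symm
  rw [natCard_rud]
  intro hd
  have hp' : p ∣ 2 ^ 14 * (3 ^ 3 * (5 ^ 3 * (7 * (13 * 29)))) :=
    (dvd_pow_self p two_ne_zero).trans (hd.trans (by norm_num))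
  rcases hprime.dvd_mul.1 hp' with h | h
  · exact h2 ((Nat.prime_dvd_prime_iff_eq hprime Nat.prime_two).1 (hprime.dvd_of_dvd_pow h))
  rcases hprime.dvd_mul.1 h with h | h
  · exact h3 ((Nat.prime_dvd_prime_iff_eq hprime Nat.prime_three).1 (hprime.dvd_of_dvd_pow h))
  rcases hprime.dvd_mul.1 h with h | h
  · exact h5 ((Nat.prime_dvd_prime_iff_eq hprime Nat.prime_five).1 (hprime.dvd_of_dvd_pow h))
  rcases hprime.dvd_mul.1 h with h | h
  · rw [(Nat.prime_dvd_prime_iff_eq hprime (by norm_num)).1 h] at hd; norm_num at hd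
  rcases hprime.dvd_mul.1 h with h | h
  · rw [(Nat.prime_dvd_prime_iff_eq hprime (by norm_num)).1 h] at hd; norm_num at hd
  · rw [(Nat.prime_dvd_prime_iff_eq hprime (by norm_num)).1 h] at hd; norm_num at hd

/-- The kernel of a stem extension has at most two elements. -/
theorem ker_le_two {Γ : Type u} [Group Γ] [Finite Γ] (σ : Γ →* rud) (hσ : Cfsg.IsStemExtension σ) :
    Nat.card σ.ker ≤ 2 := by
  obtain ⟨a, ha⟩ := hσ.1 pairx
  obtain ⟨b, hb⟩ := hσ.1 pairy
  obtain ⟨hx, hxy⟩ := pair_facts
  obtain ⟨c, hc⟩ : ∃ c, c = ⁅a, b⁆ := ⟨_, rfl⟩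
  have hck : c ∈ σ.ker := by
    rw [hc, MonoidHom.mem_ker, map_commutatorElement, ha, hb, commutatorElement_eq_one_iff_mul_comm, hxy]
  have hgen : σ.ker ≤ Subgroup.zpowers c := by
    by_contra hne
    obtain ⟨Δ, i1, i2, τ, π, hτ, hp, hcomp, hπc⟩ := Multiplier.exists_prime_quotient hσ hck hne
    refine not_commute_lifts Δ τ hτ hp (π a) (π b) ?_ ?_ ?_
    · rw [← ha, ← hcomp]; rfl
    · rw [← hb, ← hcomp]; rfl
    · rw [← commutatorElement_eq_one_iff_mul_comm, ← map_commutatorElement, ← hc, hπc]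
  have hc2 : c * c = 1 := by
    have haa : a * a ∈ Subgroup.center Γ := hσ.2.1 (by rw [MonoidHom.mem_ker, map_mul, ha, hx])
    have hcc : ∀ g, g * c = c * g := Subgroup.mem_center_iff.1 (hσ.2.1 hck)
    have hab : a * b = c * (b * a) := by rw [hc, commutatorElement_def]; group
    have h2 : a * a * b = c * c * (b * (a * a)) := by
      calc a * a * b = a * (c * (b * a)) := by rw [mul_assoc, hab]
        _ = c * (a * b * a) := by rw [← mul_assoc, hcc a]; simp only [mul_assoc]
        _ = c * c * (b * (a * a)) := by rw [hab]; simp only [mul_assoc]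
    rw [Subgroup.mem_center_iff.1 haa b] at h2
    exact mul_eq_right.1 h2.symm
  refine (Nat.le_of_dvd Nat.card_pos (Subgroup.card_dvd_of_le hgen)).trans ?_
  rw [Nat.card_zpowers]
  exact orderOf_le_of_pow_eq_one two_pos (by rw [pow_two, hc2])

end Cfsg.Agent.MultiplierRu
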