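import Cfsg.Agent.Lib.MultiplierRu.Data
import Cfsg.Agent.Lib.RuPerm.Groups

/-!
# The checks bounding the Schur multiplier of the Rudvalis group

* `el` : a word in the generating permutations as an element of `rud`;  `eqR` : equality on five lines
* `rel_ok`, `stab_ok`, `pair_ok`, `subl_ok`, `tails_ok`, `three_ok`, `five_ok`
-/

set_option autoImplicit false
set_option maxRecDepth 20000
set_option Elab.async false

namespace Cfsg.Agent.MultiplierRu

open Cfsg.Agent.StabCert Cfsg.Agent.RuPerm Cfsg.Agent.Multiplier

/-- Equality of words on the five lines. -/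
def eqR (u v : List ℕ) : Bool := detPts.all fun β => Nat.beq (ev 12 perm u β) (ev 12 perm v β)

/-- A word in the polycyclic generators as a word in the permutations. -/
def pcW (l : List ℕ) : List ℕ := l.flatMap fun i => pcWords.getD i []

/-- All sublists. -/
def subl : List ℕ → List (List ℕ)
  | [] => [[]]
  | a :: l => subl l ++ (subl l).map (a :: ·)

/-- The words are words in the nine permutations. -/
def wordsOK : Bool :=
  (pcWords ++ conjWords ++ threeWords ++ fiveWords).all fun l => l.all fun k => Nat.blt k 9

/-- The polycyclic relations. -/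
def relOK : Bool :=
  (List.range 14).all fun a => (List.range (a + 1)).all fun b =>
    eqR (pcW [a, b]) (pcW (TailCert.rep 14 rhs a b))

/-- The transported elements. -/
def stabOK (r : TailCert.Stab) : Bool :=
  r.xs.all (·.all (Nat.blt · 14)) && r.ys.all (·.all (Nat.blt · 14)) && r.xs.length == r.ys.length &&
    (List.range r.xs.length).all fun i =>
      eqR (conjWords.getD r.c [] ++ pcW (r.xs.getD i [])) (pcW (r.ys.getD i []) ++ conjWords.getD r.c [])

/-- The commuting pair. -/
def pairOK : Bool :=
  pairX.all (Nat.blt · 14) && pairY.all (Nat.blt · 14) && eqR (pcW (pairX ++ pairX)) [] &&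
    eqR (pcW (pairX ++ pairY)) (pcW (pairY ++ pairX))

/-- A word in the two generators of an odd Sylow subgroup. -/
def oddW (ws : List (List ℕ)) (l : List ℕ) : List ℕ := l.flatMap fun i => ws.getD i []

/-- The check at an odd prime. -/
def oddOK (p : ℕ) (ws els : List (List ℕ)) (succ : List ℕ) : Bool :=
  els.length == p * p * p && els.headD [0] == [] &&
  els.all (·.all (Nat.blt · 2)) &&
  (List.range els.length).all (fun i => (List.range 2).all fun j =>
    Nat.blt (succ.getD (2 * i + j) els.length) els.length &&
      eqR (oddW ws (els.getD i [] ++ [j])) (oddW ws (els.getD (succ.getD (2 * i + j) 0) []))) &&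
  (List.range els.length).all (fun i => (List.range i).all fun j =>
    !eqR (oddW ws (els.getD i [])) (oddW ws (els.getD j []))) &&
  eqR (oddW ws (List.replicate p 0)) [] && eqR (oddW ws (List.replicate p 1)) [] &&
  -- the involution inverts both generators
  eqR (oddW ws [2, 2]) [] &&
  eqR (oddW ws [2, 0, 2, 0]) [] && eqR (oddW ws [2, 1, 2, 1]) [] &&
  -- the commutator is central and not trivial
  !eqR (oddW ws [0, 1]) (oddW ws [1, 0]) &&
  eqR (oddW ws ([0, 1] ++ List.replicate (p - 1) 0 ++ List.replicate (p - 1) 1 ++ [0]))
    (oddW ws ([0, 0, 1] ++ List.replicate (p - 1) 0 ++ List.replicate (p - 1) 1)) &&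
  eqR (oddW ws ([0, 1] ++ List.replicate (p - 1) 0 ++ List.replicate (p - 1) 1 ++ [1]))
    (oddW ws ([1, 0, 1] ++ List.replicate (p - 1) 0 ++ List.replicate (p - 1) 1))

theorem words_ok : wordsOK = true := by decide +kernel
theorem rel_ok : relOK = true := by decide +kernel
theorem stab_ok : stabs.all stabOK = true := by decide +kernel
theorem pair_ok : pairOK = true := by decide +kernel
theorem shift_ok : TailCert.shiftOK 14 rhs shiftSel fixedTails = true := by decide +kernel
theorem tails_ok : TailCert.stableOK 14 rhs pairX pairY consFacts stabs fixedTails dersTails = true := by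
  decide +kernel
theorem all_ok : TailCert.allTails 14 rhs (2 ^ (TailCert.pairs 14).length - 1) [] = true := by decide +kernel
theorem three_ok : oddOK 3 threeWords threeElems threeSucc = true := by decide +kernel
theorem five_ok : oddOK 5 fiveWords fiveElems fiveSucc = true := by decide +kernel
theorem subl_ok : ((subl (List.range 14)).all fun l => l.isEmpty || !eqR (pcW l) []) = true := by
  decide +kernel

/-- A generating permutation as an element of `rud`. -/
noncomputable def genR (k : ℕ) : rud :=
  ⟨gen k, by
    by_cases h : k < 9
    · rw [rud_eq]; exact gen_mem h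
    · rw [gen, dif_neg h]; exact one_mem _⟩

/-- A word in the permutations as an element of `rud`. -/
noncomputable def el (l : List ℕ) : rud := (l.map genR).prod

end Cfsg.Agent.MultiplierRu
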