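import Cfsg.Agent.Lib.MultiplierRu.Bound
import Cfsg.Agent.Lib.RuMinimal.Group
import Cfsg.Prelude.Def_KGroupFacts

/-!
# The double cover of the Rudvalis group

* `covD` : the derived group of `fourRu`;  `covHom` : its map onto `RuPerm.rud`
* `covHom_stem`, `natCard_ker_covHom` : a stem extension with kernel of order 2
-/

set_option autoImplicit false

open scoped commutatorElement

namespace Cfsg.Agent.MultiplierRu

open Cfsg.Spor Cfsg.Agent.RuMin

theorem finite_fourRu : Finite fourRu := by
  refine Nat.finite_of_card_ne_zero ?_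
  rw [Subgroup.card_eq_card_quotient_mul_card_subgroup (Subgroup.center fourRu), natCard_center,
    show Nat.card (fourRu ⧸ Subgroup.center fourRu) = 145926144000 from natCard_Ru]
  norm_num

/-- The action on the lines. -/
noncomputable def projR : fourRu →* RuPerm.rud := proj.codRestrict RuPerm.rud proj_mem

theorem projR_surjective : Function.Surjective projR := fun g => by
  obtain ⟨f, hf⟩ : g.1 ∈ proj.range := range_proj.symm ▸ g.2
  exact ⟨f, Subtype.ext hf⟩

theorem ker_projR : projR.ker ≤ Subgroup.center fourRu := fun f hf =>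
  ker_le_center (MonoidHom.mem_ker.2 (congrArg Subtype.val (MonoidHom.mem_ker.1 hf)))

/-- The derived group of `fourRu`. -/
abbrev covD : Subgroup fourRu := commutator fourRu

/-- The derived group onto the group on the lines. -/
noncomputable def covHom : covD →* RuPerm.rud := projR.comp covD.subtype

theorem covHom_surjective : Function.Surjective covHom := by
  have hmap : covD.map projR = ⊤ := by
    rw [covD, commutator_def, Subgroup.map_commutator, Subgroup.map_top_of_surjective _ projR_surjective]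
    have := RuPerm.level_rud.1
    rcases (inferInstance : (⁅(⊤ : Subgroup RuPerm.rud), ⊤⁆ : Subgroup RuPerm.rud).Normal).eq_bot_or_eq_top
      with h | h
    · exfalso
      have hle : (⊤ : Subgroup RuPerm.rud) ≤ Subgroup.center RuPerm.rud := fun g _ =>
        Subgroup.mem_center_iff.2 fun x => commutatorElement_eq_one_iff_mul_comm.1 (by
          rw [← Subgroup.mem_bot, ← h]
          exact Subgroup.commutator_mem_commutator (Subgroup.mem_top x) (Subgroup.mem_top g))
      rw [center_rud, top_le_iff] at hle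
      have : Nat.card RuPerm.rud = 1 := by
        rw [← Subgroup.card_top (G := RuPerm.rud), ← hle, Subgroup.card_bot]
      rw [RuPerm.natCard_rud] at this
      norm_num at this
    · exact h
  intro g
  obtain ⟨d, hd, e⟩ : g ∈ covD.map projR := hmap ▸ Subgroup.mem_top g
  exact ⟨⟨d, hd⟩, e⟩

theorem covD_le : covD ≤ ⁅covD, covD⁆ := by
  have h : ⁅(⊤ : Subgroup fourRu), ⊤⁆ ≤ ⁅covD, covD⁆ := by
    rw [Subgroup.commutator_le]
    intro a _ b _
    obtain ⟨a', ha⟩ := covHom_surjective (projR a)
    obtain ⟨b', hb⟩ := covHom_surjective (projR b)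
    rw [Multiplier.commutator_congr ker_projR (show projR a = projR a' from ha.symm)
      (show projR b = projR b' from hb.symm)]
    exact Subgroup.commutator_mem_commutator a'.2 b'.2
  simpa only [covD, commutator_def] using h

theorem covHom_stem : Cfsg.IsStemExtension covHom := by
  refine ⟨covHom_surjective, fun d hd => ?_, fun d hd => ?_⟩
  · refine Subgroup.mem_center_iff.2 fun g => Subtype.ext ?_
    exact Subgroup.mem_center_iff.1 (ker_projR (MonoidHom.mem_ker.2 (MonoidHom.mem_ker.1 hd))) g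
  · have h := covD_le d.2
    rw [← Subgroup.map_subtype_commutator] at h
    obtain ⟨x, hx, e⟩ := h
    rwa [← Subtype.ext e]

theorem op_mem {v : RuVec} (hv : v ∈ ruLattice) : ruRj v ∈ ruLattice ∧ ruRk v ∈ ruLattice := by
  rw [ruLattice, AddSubgroup.mem_sInf] at hv
  exact ⟨AddSubgroup.mem_sInf.2 fun L hL => (hL.2 v (hv L hL)).2.1,
    AddSubgroup.mem_sInf.2 fun L hL => (hL.2 v (hv L hL)).2.2.1⟩

theorem op_laws : (∀ v, ruRj (ruRj v) = -v) ∧ (∀ v, ruRk (ruRk v) = -v) ∧
    (∀ v, ruRj (ruRk v) = -ruRk (ruRj v)) := by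
  have hi : gI * gI = -1 := rfl
  refine ⟨fun v => ?_, fun v => ?_, fun v => ?_⟩ <;> funext ⟨n, t⟩ <;> fin_cases t <;>
    simp [ruRj, ruRk, ← mul_assoc, hi]

/-- An operation on the lattice as an automorphism. -/
noncomputable def opAut (F : RuVec → RuVec) (hmem : ∀ v, v ∈ ruLattice → F v ∈ ruLattice)
    (hsq : ∀ v, F (F v) = -v) (hadd : ∀ v w, F (v + w) = F v + F w) (hI : ∀ v, F (gI • v) = gI • F v)
    (hn : ∀ v, ruNorm (F v) = ruNorm v) : fourRu where
  val :=
    { toFun := fun v => ⟨F v, hmem _ v.2⟩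
      invFun := fun v => -⟨F v, hmem _ v.2⟩
      left_inv := fun v => Subtype.ext (by
        show -F (F v) = _
        rw [hsq, neg_neg])
      right_inv := fun v => Subtype.ext (by
        show F (-F v) = _
        rw [show F (-F (v : RuVec)) = -F (F v) from (AddMonoidHom.mk' F hadd).map_neg _, hsq, neg_neg]) }
  property := ⟨fun v w => Subtype.ext (hadd v w), fun v => Subtype.ext (hI v), fun v => hn v⟩

theorem op_linear : (∀ v w, ruRj (v + w) = ruRj v + ruRj w) ∧ (∀ v w, ruRk (v + w) = ruRk v + ruRk w) ∧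
    (∀ v, ruRj (gI • v) = gI • ruRj v) ∧ (∀ v, ruRk (gI • v) = gI • ruRk v) := by
  refine ⟨fun v w => ?_, fun v w => ?_, fun v => ?_, fun v => ?_⟩ <;> funext ⟨n, t⟩ <;> fin_cases t <;>
    simp [ruRj, ruRk, mul_add, mul_left_comm, add_comm]

theorem exists_anticommuting : ∃ a b : fourRu, ⁅a, b⁆ ≠ 1 ∧ ⁅a, b⁆ ∈ proj.ker := by
  refine ⟨opAut ruRj (fun v h => (op_mem h).1) op_laws.1 op_linear.1 op_linear.2.2.1 norm_applyOp.1,
    opAut ruRk (fun v h => (op_mem h).2) op_laws.2.1 op_linear.2.1 op_linear.2.2.2 norm_applyOp.2.1, ?_⟩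
  generalize hA : opAut ruRj _ _ _ _ _ = a
  generalize hB : opAut ruRk _ _ _ _ _ = b
  have key : a * b = scalar 1 * (b * a) := by
    refine Subtype.ext (Equiv.ext fun v => Subtype.ext ?_)
    show ((a.1 (b.1 v) : ruLattice) : RuVec) = ((smulL (unitList 1) (b.1 (a.1 v)) : ruLattice) : RuVec)
    subst hA hB
    show ruRj (ruRk v) = unitList 1 • ruRk (ruRj v)
    rw [op_laws.2.2, show unitList 1 = (-1 : GaussianInt) from rfl, neg_one_smul]
  have e : ⁅a, b⁆ = scalar 1 := by
    rw [commutatorElement_def, key]; group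
  rw [e]
  refine ⟨fun h => ?_, MonoidHom.mem_ker.2 (Equiv.ext fun x => imgLine_eq (scalar 1) (u := unitList 1) rfl)⟩
  have h1 : smulL (unitList 1) (lineL 0) = smulL 1 (lineL 0) := by
    rw [smulL_one]
    exact congrArg (fun g : fourRu => g.1 (lineL 0)) h
  have h2 : unitList 1 = 1 := smul_left_injective GaussianInt (lineVec_ne_zero 0) (congrArg Subtype.val h1)
  exact absurd h2 (by decide)

theorem natCard_ker_covHom : Nat.card covHom.ker = 2 := by
  have := finite_fourRu
  refine le_antisymm (ker_le_two covHom covHom_stem) ?_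
  obtain ⟨a, b, hne, hker⟩ := exists_anticommuting
  have hd : ⁅a, b⁆ ∈ covD :=
    Subgroup.commutator_mem_commutator (Subgroup.mem_top a) (Subgroup.mem_top b)
  have hk : (⟨⁅a, b⁆, hd⟩ : covD) ∈ covHom.ker :=
    MonoidHom.mem_ker.2 (Subtype.ext (MonoidHom.mem_ker.1 hker))
  exact Finite.one_lt_card_iff_nontrivial.2
    ⟨⟨⟨_, hk⟩, 1, fun h => hne (congrArg (fun x : covHom.ker => ((x : covD) : fourRu)) h)⟩⟩

end Cfsg.Agent.MultiplierRu
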